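import Mathlib
import Groth.Agent.MTBridge.Centralizer

/-!
# Iterated Frobenius kernels of affine group schemes over a field
-/

set_option autoImplicit false
set_option linter.style.haveILetI false
set_option backward.isDefEq.respectTransparency.types false

universe u

open CategoryTheory CategoryTheory.Limits MonoidalCategory CartesianMonoidalCategory MonObj GrpObj
open AlgebraicGeometry

noncomputable section

namespace Groth.Agent.FinSubDet

variable {k : Type u} [Field k]

/-- The counit ideal. -/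
def augI (H : Over (Spec (CommRingCat.of k))) [GrpObj H] : Ideal Γ(H.left, ⊤) :=
  RingHom.ker (η[H]).left.appTop.hom

theorem etaHom (H : Over (Spec (CommRingCat.of k))) [GrpObj H] (c : Γ(Spec (CommRingCat.of k), ⊤)) :
    (η[H]).left.appTop.hom (H.hom.appTop.hom c) = c := by
  have h := congrArg (fun f => f.appTop.hom c) (Over.w η[H])
  rw [Scheme.Hom.comp_appTop] at h
  exact h.trans (by
    change (Scheme.Hom.appTop (𝟙 (Spec (CommRingCat.of k)))).hom c = c
    rw [Scheme.Hom.id_appTop]; rfl)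

theorem one_appTop {T H : Over (Spec (CommRingCat.of k))} [GrpObj H] (a : Γ(H.left, ⊤)) :
    (1 : T ⟶ H).left.appTop.hom a = T.hom.appTop.hom ((η[H]).left.appTop.hom a) := by
  rw [Hom.one_def, Over.comp_left, Scheme.Hom.comp_appTop]
  rfl

variable (p : ℕ) [Fact p.Prime] [CharP k p]

theorem expChar_sections (T : Over (Spec (CommRingCat.of k))) [Nontrivial Γ(T.left, ⊤)] :
    ExpChar Γ(T.left, ⊤) p := by
  let f : k →+* Γ(T.left, ⊤) := T.hom.appTop.hom.comp (Scheme.ΓSpecIso (CommRingCat.of k)).inv.hom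
  haveI := charP_of_injective_ringHom f.injective p
  exact ExpChar.prime (Fact.out)

theorem pow_sub_pow (T : Over (Spec (CommRingCat.of k))) (m : ℕ) (x y : Γ(T.left, ⊤)) :
    (x - y) ^ p ^ m = x ^ p ^ m - y ^ p ^ m := by
  rcases subsingleton_or_nontrivial Γ(T.left, ⊤) with h | h
  · exact Subsingleton.elim _ _
  · haveI := expChar_sections p T
    exact sub_pow_expChar_pow (p := p) x y m

/-- The condition on points cutting out the kernel of the iterated Frobenius. -/
def InFrob {T H : Over (Spec (CommRingCat.of k))} [GrpObj H] (m : ℕ) (g : T ⟶ H) : Prop :=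
  ∀ a : Γ(H.left, ⊤), g.left.appTop.hom a ^ p ^ m = (1 : T ⟶ H).left.appTop.hom a ^ p ^ m

theorem inFrob_iff {T H : Over (Spec (CommRingCat.of k))} [GrpObj H] (m : ℕ) (g : T ⟶ H) :
    InFrob p m g ↔ ∀ x ∈ augI H, g.left.appTop.hom x ^ p ^ m = 0 := by
  constructor
  · intro h x hx
    rw [h x, one_appTop, show (η[H]).left.appTop.hom x = 0 from hx, map_zero]
    exact zero_pow (pow_ne_zero _ (Fact.out : p.Prime).ne_zero)
  · intro h a
    have hx : a - H.hom.appTop.hom ((η[H]).left.appTop.hom a) ∈ augI H := by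
      rw [augI, RingHom.mem_ker, map_sub, etaHom, sub_self]
    have h2 := h _ hx
    have hg : g.left.appTop.hom (H.hom.appTop.hom ((η[H]).left.appTop.hom a)) =
        T.hom.appTop.hom ((η[H]).left.appTop.hom a) := by
      have h3 := congrArg (fun f => f.appTop.hom ((η[H]).left.appTop.hom a)) (Over.w g)
      rw [Scheme.Hom.comp_appTop] at h3
      exact h3
    rw [map_sub, pow_sub_pow p T, sub_eq_zero, hg] at h2
    rw [h2, one_appTop]

theorem InFrob.div {T H : Over (Spec (CommRingCat.of k))} [GrpObj H] [IsAffine H.left] {m : ℕ}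
    {g₁ g₂ : T ⟶ H} (h₁ : InFrob p m g₁) (h₂ : InFrob p m g₂) : InFrob p m (g₁⁻¹ * g₂) := by
  rcases subsingleton_or_nontrivial Γ(T.left, ⊤) with h | h
  · intro a
    exact Subsingleton.elim _ _
  haveI := expChar_sections p T
  let F : Γ(T.left, ⊤) →+* Γ(T.left, ⊤) := iterateFrobenius Γ(T.left, ⊤) p m
  let U : Over (Spec (CommRingCat.of k)) :=
    Over.mk (Spec.map T.hom.appTop ≫ (Spec (CommRingCat.of k)).isoSpec.inv)
  haveI : IsAffine U.left := inferInstanceAs (IsAffine (Spec _))
  let σ : T ⟶ U := Over.homMk T.left.toSpecΓ (by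
    show T.left.toSpecΓ ≫ Spec.map T.hom.appTop ≫ (Spec (CommRingCat.of k)).isoSpec.inv = T.hom
    rw [← Scheme.toSpecΓ_naturality_assoc, ← Scheme.isoSpec_hom (Spec (CommRingCat.of k)), Iso.hom_inv_id,
      Category.comp_id])
  let U' : Over (Spec (CommRingCat.of k)) := Over.mk (Spec.map (CommRingCat.ofHom F) ≫ U.hom)
  let φ : U' ⟶ U := Over.homMk (Spec.map (CommRingCat.ofHom F))
  let lift : (T ⟶ H) → (U ⟶ H) := fun g => Over.homMk (Spec.map g.left.appTop ≫ H.left.isoSpec.inv) (by
    show (Spec.map g.left.appTop ≫ H.left.isoSpec.inv) ≫ H.hom = _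
    rw [Category.assoc, ← Scheme.isoSpec_inv_naturality H.hom, ← Spec.map_comp_assoc,
      ← Scheme.Hom.comp_appTop, Over.w g]
    rfl)
  have hσ : ∀ g : T ⟶ H, σ ≫ lift g = g := fun g => by
    ext1
    show T.left.toSpecΓ ≫ Spec.map g.left.appTop ≫ H.left.isoSpec.inv = g.left
    rw [← Scheme.toSpecΓ_naturality_assoc, ← Scheme.isoSpec_hom H.left, Iso.hom_inv_id, Category.comp_id]
  have hlift : ∀ u : U ⟶ H, lift (σ ≫ u) = u := fun u => by
    ext1
    show Spec.map (σ ≫ u).left.appTop ≫ H.left.isoSpec.inv = u.left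
    rw [Over.comp_left, Scheme.Hom.comp_appTop, Spec.map_comp, Category.assoc,
      Scheme.isoSpec_inv_naturality u.left]
    show Spec.map T.left.toSpecΓ.appTop ≫ (Spec Γ(T.left, ⊤)).isoSpec.inv ≫ u.left = u.left
    rw [Scheme.toSpecΓ_appTop, ← Category.assoc, Scheme.isoSpec_Spec_inv, ← Spec.map_comp,
      Iso.inv_hom_id, Spec.map_id]
    exact Category.id_comp _
  have hiff : ∀ g : T ⟶ H, InFrob p m g ↔ φ ≫ lift g = φ ≫ lift 1 := by
    intro g
    have hc : ∀ g' : T ⟶ H, (φ ≫ lift g').left =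
        Spec.map (g'.left.appTop ≫ CommRingCat.ofHom F) ≫ H.left.isoSpec.inv := fun g' => by
      rw [Spec.map_comp, Category.assoc]; rfl
    constructor
    · intro hg
      ext1
      rw [hc, hc]
      congr 2
      exact CommRingCat.hom_ext (RingHom.ext fun a => by
        change F (g.left.appTop.hom a) = F ((1 : T ⟶ H).left.appTop.hom a)
        rw [iterateFrobenius_def, iterateFrobenius_def]
        exact hg a)
    · intro hg a
      have h1 : Spec.map (g.left.appTop ≫ CommRingCat.ofHom F) ≫ H.left.isoSpec.inv =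
          Spec.map ((1 : T ⟶ H).left.appTop ≫ CommRingCat.ofHom F) ≫ H.left.isoSpec.inv :=
        (hc g).symm.trans ((congrArg (fun f => f.left) hg).trans (hc 1))
      rw [cancel_mono] at h1
      have h2 := congrArg (fun f => f.hom a) (Spec.map_injective h1)
      change F (g.left.appTop.hom a) = F ((1 : T ⟶ H).left.appTop.hom a) at h2
      rwa [iterateFrobenius_def, iterateFrobenius_def] at h2
  have hl1 : lift 1 = 1 := by
    rw [← hlift 1, MonObj.comp_one]
  have hl : lift (g₁⁻¹ * g₂) = (lift g₁)⁻¹ * lift g₂ := by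
    rw [← hlift ((lift g₁)⁻¹ * lift g₂), MonObj.comp_mul, GrpObj.comp_inv, hσ, hσ]
  rw [hiff] at h₁ h₂ ⊢
  rw [hl, hl1, MonObj.comp_one, MonObj.comp_mul, GrpObj.comp_inv]
  rw [hl1, MonObj.comp_one] at h₁ h₂
  rw [h₁, h₂, inv_one, _root_.one_mul]

/-- The kernels of iterated Frobenius are finite subgroups, cut out in arbitrarily high powers of the
counit ideal. -/
theorem exists_frobKer (H : Over (Spec (CommRingCat.of k))) [GrpObj H] [IsAffine H.left]
    [LocallyOfFiniteType H.hom] (m : ℕ) :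
    ∃ (I : Over (Spec (CommRingCat.of k))) (_ : GrpObj I) (i : I ⟶ H), IsMonHom i ∧ Mono i ∧ IsFinite I.hom ∧
      RingHom.ker i.left.appTop.hom ≤ augI H ^ p ^ m := by
  set q := p ^ m with hq
  let J : Ideal Γ(H.left, ⊤) := Ideal.span ((fun x => x ^ q) '' (augI H : Set Γ(H.left, ⊤)))
  let π : Γ(H.left, ⊤) ⟶ CommRingCat.of (Γ(H.left, ⊤) ⧸ J) := CommRingCat.ofHom (Ideal.Quotient.mk J)
  let ι₀ : Spec (CommRingCat.of (Γ(H.left, ⊤) ⧸ J)) ⟶ H.left := Spec.map π ≫ H.left.isoSpec.inv
  let I : Over (Spec (CommRingCat.of k)) := Over.mk (ι₀ ≫ H.hom)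
  let i : I ⟶ H := Over.homMk ι₀
  haveI : IsClosedImmersion (Spec.map π) := IsClosedImmersion.spec_of_surjective _ Ideal.Quotient.mk_surjective
  haveI : IsClosedImmersion i.left := inferInstanceAs (IsClosedImmersion (Spec.map π ≫ H.left.isoSpec.inv))
  haveI : Mono i.left := inferInstance
  haveI : Mono i := Over.mono_of_mono_left i
  have hker : RingHom.ker i.left.appTop.hom = J := by
    have h1 : i.left.appTop = H.left.isoSpec.inv.appTop ≫ (Spec.map π).appTop := rfl
    rw [h1]
    have h2 : H.left.isoSpec.inv.appTop ≫ (Spec.map π).appTop =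
        π ≫ (Scheme.ΓSpecIso (CommRingCat.of (Γ(H.left, ⊤) ⧸ J))).inv := by
      have hh : H.left.isoSpec.inv.appTop = (Scheme.ΓSpecIso Γ(H.left, ⊤)).inv := by
        rw [← cancel_mono (Scheme.ΓSpecIso Γ(H.left, ⊤)).hom, Iso.inv_hom_id]
        have h3 := congrArg Scheme.Hom.appTop H.left.isoSpec.inv_hom_id
        rw [Scheme.Hom.comp_appTop, Scheme.isoSpec_hom, Scheme.toSpecΓ_appTop, Scheme.Hom.id_appTop] at h3
        rw [(Iso.hom_comp_eq_id _).1 h3]
        exact Iso.inv_hom_id _
      rw [hh, ← Scheme.ΓSpecIso_inv_naturality]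
    rw [h2]
    ext a
    rw [RingHom.mem_ker]
    constructor
    · intro ha
      exact Ideal.Quotient.eq_zero_iff_mem.1
        ((map_eq_zero_iff _ (Scheme.ΓSpecIso _).commRingCatIsoToRingEquiv.symm.injective).1 ha)
    · intro ha
      change (Scheme.ΓSpecIso (CommRingCat.of (Γ(H.left, ⊤) ⧸ J))).inv.hom (Ideal.Quotient.mk J a) = 0
      rw [Ideal.Quotient.eq_zero_iff_mem.2 ha, map_zero]
  have hfac : ∀ (T : Over (Spec (CommRingCat.of k))) (g : T ⟶ H), (∃ z : T ⟶ I, z ≫ i = g) ↔ InFrob p m g := by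
    intro T g
    rw [inFrob_iff]
    constructor
    · rintro ⟨z, rfl⟩ x hx
      rw [Over.comp_left, Scheme.Hom.comp_appTop]
      change z.left.appTop.hom (i.left.appTop.hom x) ^ q = 0
      rw [← map_pow, ← map_pow]
      have h : x ^ q ∈ RingHom.ker i.left.appTop.hom := hker ▸ Ideal.subset_span ⟨x, hx, rfl⟩
      rw [RingHom.mem_ker.1 h, map_zero]
    · intro hg
      have hJ : J ≤ RingHom.ker g.left.appTop.hom := Ideal.span_le.2 (by
        rintro _ ⟨x, hx, rfl⟩
        exact RingHom.mem_ker.2 ((map_pow _ _ _).trans (hg x hx)))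
      let b : CommRingCat.of (Γ(H.left, ⊤) ⧸ J) ⟶ Γ(T.left, ⊤) :=
        CommRingCat.ofHom (Ideal.Quotient.lift J g.left.appTop.hom hJ)
      have hb : π ≫ b = g.left.appTop := rfl
      have hz : (T.left.toSpecΓ ≫ Spec.map b) ≫ ι₀ = g.left := by
        show (T.left.toSpecΓ ≫ Spec.map b) ≫ Spec.map π ≫ H.left.isoSpec.inv = g.left
        rw [Category.assoc, ← Spec.map_comp_assoc, hb, ← Scheme.toSpecΓ_naturality_assoc,
          ← Scheme.isoSpec_hom H.left, Iso.hom_inv_id, Category.comp_id]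
      refine ⟨Over.homMk (T.left.toSpecΓ ≫ Spec.map b) ?_, ?_⟩
      · show (T.left.toSpecΓ ≫ Spec.map b) ≫ ι₀ ≫ H.hom = T.hom
        rw [← Category.assoc, hz]
        exact Over.w g
      · ext1
        exact hz
  obtain ⟨e, he⟩ := (hfac (𝟙_ _) η[H]).2 (fun a => by rw [Hom.one_def, toUnit_unit, Category.id_comp])
  obtain ⟨G, hG⟩ := MTBridge.exists_grpObj_of_div i ⟨e, he⟩ fun T a b =>
    (hfac T _).2 (InFrob.div p ((hfac T _).1 ⟨a, rfl⟩) ((hfac T _).1 ⟨b, rfl⟩))
  refine ⟨I, G, i, hG, inferInstance, ?_, ?_⟩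
  · haveI : LocallyOfFiniteType I.hom := inferInstanceAs (LocallyOfFiniteType (i.left ≫ H.hom))
    haveI : IsAffine I.left := inferInstanceAs (IsAffine (Spec _))
    haveI : IsAffineHom I.hom := inferInstance
    refine HasAffineProperty.iff_of_isAffine.2 ⟨inferInstance, ?_⟩
    refine RingHom.IsIntegral.to_finite ?_ (HasRingHomProperty.iff_of_isAffine.1 ‹LocallyOfFiniteType I.hom›)
    intro b
    let c₀ := I.hom.appTop.hom
    letI := c₀.toAlgebra
    obtain ⟨a, rfl⟩ := (IsClosedImmersion.isAffine_surjective_of_isAffine i.left).2 b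
    set c : Γ(Spec (CommRingCat.of k), ⊤) := (η[H]).left.appTop.hom a
    have hx : a - H.hom.appTop.hom c ∈ augI H := by
      rw [augI, RingHom.mem_ker, map_sub, etaHom, sub_self]
    have h0 : (i.left.appTop.hom (a - H.hom.appTop.hom c)) ^ q = 0 := by
      rw [← map_pow, ← RingHom.mem_ker, hker]
      exact Ideal.subset_span ⟨_, hx, rfl⟩
    have hc : i.left.appTop.hom (H.hom.appTop.hom c) = c₀ c := rfl
    rw [map_sub, hc] at h0
    have h2 : IsIntegral Γ(Spec (CommRingCat.of k), ⊤) (i.left.appTop.hom a - c₀ c) :=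
      IsIntegral.of_pow (Nat.pos_of_ne_zero (pow_ne_zero _ (Fact.out : p.Prime).ne_zero)) (h0 ▸ isIntegral_zero)
    have h3 := h2.add (isIntegral_algebraMap (x := c))
    rw [show algebraMap _ _ c = c₀ c from rfl, sub_add_cancel] at h3
    exact h3
  · rw [hker]
    refine Ideal.span_le.2 ?_
    rintro _ ⟨x, hx, rfl⟩
    exact Ideal.pow_mem_pow hx q

end Groth.Agent.FinSubDet
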