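import Groth.Agent.FinSubDet.Frob
import Groth.Agent.AdjRep.KerObj
import Groth.Agent.GrpField.Kernel
import Groth.Agent.Takeuchi.Quot
import Groth.Agent.GrpBasic.Cartier
import Groth.Agent.SmoothRed.Scheme

/-!
# Isomorphisms of commutative affine groups detected on finite subgroups and geometric points
-/

set_option autoImplicit false
set_option linter.style.haveILetI false
set_option backward.isDefEq.respectTransparency false
set_option backward.isDefEq.respectTransparency.types false

universe u

open CategoryTheory CategoryTheory.Limits MonoidalCategory CartesianMonoidalCategory MonObj GrpObj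
open AlgebraicGeometry

noncomputable section

namespace Groth.Agent.FinSubDet

variable {k : Type u} [Field k] (K : Type u) [Field K] [Algebra k K] [IsAlgClosed K]

/-- The geometric point. -/
abbrev geo : Over (Spec (CommRingCat.of k)) := Over.mk (Spec.map (CommRingCat.ofHom (algebraMap k K)))

/-- Closed points carry geometric points. -/
theorem exists_geo_pt {X : Over (Spec (CommRingCat.of k))} [LocallyOfFiniteType X.hom] {x : X.left}
    (hx : IsClosed ({x} : Set X.left)) : ∃ e : geo (k := k) K ⟶ X, ∀ t, e.left t = x := by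
  let c : CommRingCat.of k ⟶ X.left.residueField x := Spec.preimage (X.left.fromSpecResidueField x ≫ X.hom)
  have hc : Spec.map c = X.left.fromSpecResidueField x ≫ X.hom := Spec.map_preimage _
  have hft : c.hom.Finite := by
    rw [← IsFinite.SpecMap_iff, hc]
    haveI : IsClosedImmersion (X.left.fromSpecResidueField x) :=
      (isClosed_singleton_iff_isClosedImmersion).1 hx
    have h2 : LocallyOfFiniteType (X.left.fromSpecResidueField x ≫ X.hom) := inferInstance
    rw [← hc] at h2 ⊢
    exact (isFinite_iff_locallyOfFiniteType_of_jacobsonSpace).2 h2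
  letI := c.hom.toAlgebra
  haveI : Module.Finite k (X.left.residueField x) := hft
  let φ : X.left.residueField x →ₐ[k] K := IsAlgClosed.lift
  refine ⟨Over.homMk (Spec.map (CommRingCat.ofHom φ.toRingHom) ≫ X.left.fromSpecResidueField x) ?_, fun t => ?_⟩
  · show (Spec.map (CommRingCat.ofHom φ.toRingHom) ≫ X.left.fromSpecResidueField x) ≫ X.hom = _
    rw [Category.assoc, ← hc, ← Spec.map_comp]
    congr 1
    exact CommRingCat.hom_ext (RingHom.ext fun a => φ.commutes a)
  · exact Scheme.fromSpecResidueField_apply x _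

/-- A group scheme whose geometric points are trivial is a point. -/
theorem subsingleton_of_pts {X : Over (Spec (CommRingCat.of k))} [GrpObj X] [LocallyOfFiniteType X.hom]
    (h : ∀ e : geo (k := k) K ⟶ X, e = 1) : Subsingleton X.left := by
  haveI := GrpField.isClosedImmersion_eta X
  haveI := LocallyOfFiniteType.jacobsonSpace X.hom
  let t₀ : (𝟙_ (Over (Spec (CommRingCat.of k)))).left := IsLocalRing.closedPoint k
  let u₀ := (η[X]).left t₀
  have hu : ∀ x : X.left, x = u₀ := by
    have hsub : closedPoints X.left ⊆ {u₀} := by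
      intro x hx
      obtain ⟨e, he⟩ := exists_geo_pt K hx
      obtain ⟨t⟩ : Nonempty (geo (k := k) K).left := inferInstanceAs (Nonempty (PrimeSpectrum K))
      rw [Set.mem_singleton_iff, ← he t, h e, Hom.one_def, Over.comp_left]
      exact congrArg (η[X]).left (Subsingleton.elim (α := PrimeSpectrum k) _ _)
    have hcl : IsClosed ({u₀} : Set X.left) := by
      have hr : Set.range (η[X]).left = {u₀} := by
        ext x
        exact ⟨fun ⟨t, ht⟩ => ht ▸ congrArg (η[X]).left (Subsingleton.elim (α := PrimeSpectrum k) _ _),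
          fun hx => ⟨t₀, hx.symm⟩⟩
      rw [← hr]
      exact (η[X]).left.isClosedEmbedding.isClosed_range
    intro x
    have h1 := closure_closedPoints (X := X.left) ▸ Set.mem_univ x
    exact closure_minimal hsub hcl h1
  exact ⟨fun a b => (hu a).trans (hu b).symm⟩

variable {G H : Over (Spec (CommRingCat.of k))} [GrpObj G] [IsCommMonObj G] [GrpObj H] [IsCommMonObj H]
  [IsAffine G.left] [IsAffine H.left] [LocallyOfFiniteType G.hom] [LocallyOfFiniteType H.hom]
  (ψ : G ⟶ H) [IsMonHom ψ]

omit [IsCommMonObj H] [IsAffine H.left] in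
/-- Injectivity on finite subgroups and geometric points forces a monomorphism. -/
theorem mono_of_hinj
    (hinj : ∀ (I : Over (Spec (CommRingCat.of k))) [GrpObj I] [IsCommMonObj I] [IsFinite I.hom]
      (f g : I ⟶ G) [IsMonHom f] [IsMonHom g], f ≫ ψ = g ≫ ψ → f = g)
    (hpts : Function.Injective fun x : geo (k := k) K ⟶ G => x ≫ ψ) : Mono ψ := by
  obtain ⟨N, hN, i, hi, hic, -, hk⟩ := AdjRep.exists_kernel ψ
  haveI := hi; haveI := hic
  haveI : Mono i.left := inferInstance
  haveI : Mono i := Over.mono_of_mono_left i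
  haveI : IsAffine N.left := isAffine_of_isAffineHom i.left
  haveI : LocallyOfFiniteType N.hom := by rw [← Over.w i]; infer_instance
  have hiψ : i ≫ ψ = 1 := hk.w.trans (Hom.one_def).symm
  haveI : IsCommMonObj N := isCommMonObj_iff_isMulCommutative _ |>.2 fun T => ⟨⟨fun a b => by
    rw [← cancel_mono i, MonObj.mul_comp, MonObj.mul_comp, mul_comm]⟩⟩
  haveI : Subsingleton N.left := subsingleton_of_pts K fun e => by
    rw [← cancel_mono i, MonObj.one_comp]
    apply hpts
    show (e ≫ i) ≫ ψ = 1 ≫ ψ
    rw [Category.assoc, hiψ, MonObj.comp_one, MonObj.one_comp]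
  haveI : IsFinite N.hom := by
    haveI : LocallyQuasiFinite N.hom := LocallyQuasiFinite.of_finite_preimage_singleton N.hom fun y => Set.toFinite _
    haveI : IsAffineHom N.hom := inferInstance
    exact IsFinite.of_locallyQuasiFinite N.hom
  haveI : IsMonHom (1 : N ⟶ G) := by rw [Hom.one_def]; infer_instance
  have hone : i = 1 := hinj N i 1 (by rw [hiψ, MonObj.one_comp])
  refine ⟨fun {T} a b hab => ?_⟩
  have h1 : (a⁻¹ * b) ≫ ψ = 1 := by rw [MonObj.mul_comp, GrpObj.inv_comp, hab, inv_mul_cancel]
  obtain ⟨z, hz, -⟩ := hk.exists_lift (a⁻¹ * b) (toUnit T) (h1.trans (Hom.one_def))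
  rw [hone, MonObj.comp_one] at hz
  exact inv_mul_eq_one.1 hz.symm

theorem isIso_of_finite_and_points
    (hinj : ∀ (I : Over (Spec (CommRingCat.of k))) [GrpObj I] [IsCommMonObj I] [IsFinite I.hom]
      (f g : I ⟶ G) [IsMonHom f] [IsMonHom g], f ≫ ψ = g ≫ ψ → f = g)
    (hsurj : ∀ (I : Over (Spec (CommRingCat.of k))) [GrpObj I] [IsCommMonObj I] [IsFinite I.hom]
      (h : I ⟶ H) [IsMonHom h], ∃ f : I ⟶ G, IsMonHom f ∧ f ≫ ψ = h)
    (hpts : Function.Bijective fun x : geo (k := k) K ⟶ G => x ≫ ψ) : IsIso ψ := by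
  haveI := mono_of_hinj K ψ hinj hpts.1
  haveI : QuasiCompact ψ.left := inferInstance
  haveI : IsClosedImmersion ψ.left := GrpField.isClosedImmersion_of_mono ψ
  have hN : AlgGrp.IsNormalHom ψ := fun T g n => ⟨n, by
    rw [mul_comm g, mul_inv_cancel_right]⟩
  obtain ⟨Q, hQ, q, hq, haff, hlft, hflat, hsurjq, hker⟩ := Takeuchi.exists_affine_quotient H G ψ hN
  haveI := hq; haveI := hlft; haveI := haff; haveI := hflat; haveI := hsurjq
  have hψq : ψ ≫ q = 1 := hker.w.trans (Hom.one_def).symm
  suffices hq1 : q = 1 by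
    obtain ⟨z, hz, -⟩ := hker.exists_lift (𝟙 H) (toUnit H) (by rw [Category.id_comp, hq1, Hom.one_def])
    exact ⟨z, by rw [← cancel_mono ψ, Category.assoc, hz, Category.comp_id, Category.id_comp], hz⟩
  haveI hsub : Subsingleton Q.left := by
    haveI := LocallyOfFiniteType.jacobsonSpace H.hom
    haveI := GrpField.isClosedImmersion_eta Q
    let t₀ : (𝟙_ (Over (Spec (CommRingCat.of k)))).left := IsLocalRing.closedPoint k
    let u₀ := (η[Q]).left t₀
    have hsub : closedPoints H.left ⊆ q.left ⁻¹' {u₀} := by
      intro x hx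
      obtain ⟨e, he⟩ := exists_geo_pt K hx
      obtain ⟨y, rfl⟩ := hpts.2 e
      obtain ⟨t⟩ : Nonempty (geo (k := k) K).left := inferInstanceAs (Nonempty (PrimeSpectrum K))
      rw [Set.mem_preimage, Set.mem_singleton_iff, ← he t]
      show ((y ≫ ψ) ≫ q).left t = u₀
      rw [Category.assoc, hψq, MonObj.comp_one, Hom.one_def, Over.comp_left]
      exact congrArg (η[Q]).left (Subsingleton.elim (α := PrimeSpectrum k) _ _)
    have hcl : IsClosed ({u₀} : Set Q.left) := by
      have hr : Set.range (η[Q]).left = {u₀} := by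
        ext x
        exact ⟨fun ⟨t, ht⟩ => ht ▸ congrArg (η[Q]).left (Subsingleton.elim (α := PrimeSpectrum k) _ _),
          fun hx => ⟨t₀, hx.symm⟩⟩
      rw [← hr]
      exact (η[Q]).left.isClosedEmbedding.isClosed_range
    have hu : ∀ x : Q.left, x = u₀ := fun x => by
      obtain ⟨a, rfl⟩ := q.left.surjective x
      exact closure_minimal hsub (hcl.preimage q.left.continuous) (closure_closedPoints (X := H.left) ▸ Set.mem_univ a)
    exact ⟨fun a b => (hu a).trans (hu b).symm⟩
  let C := Γ(Q.left, ⊤)
  let A := Γ(H.left, ⊤)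
  let εC : C →+* Γ(Spec (CommRingCat.of k), ⊤) := (η[Q]).left.appTop.hom
  let φ : C →+* A := q.left.appTop.hom
  haveI : Nontrivial Γ(Spec (CommRingCat.of k), ⊤) :=
    (Scheme.ΓSpecIso (CommRingCat.of k)).commRingCatIsoToRingEquiv.symm.injective.nontrivial
  have hnil : ∀ c : C, εC c = 0 → IsNilpotent c := fun c hc => by
    have h1 : Q.left.basicOpen c = ⊥ := by
      rw [eq_bot_iff]
      intro x hx
      have h2 : (η[Q]).left ⁻¹ᵁ Q.left.basicOpen c = ⊥ := by
        rw [Scheme.preimage_basicOpen_top]
        show Scheme.basicOpen _ (εC c) = ⊥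
        rw [hc]
        exact Scheme.basicOpen_zero _ _
      let t₀ : (𝟙_ (Over (Spec (CommRingCat.of k)))).left := IsLocalRing.closedPoint k
      have h3 : t₀ ∈ (η[Q]).left ⁻¹ᵁ Q.left.basicOpen c := by
        show (η[Q]).left t₀ ∈ Q.left.basicOpen c
        rwa [Subsingleton.elim ((η[Q]).left t₀) x]
      rw [h2] at h3
      exact h3.elim
    exact (Scheme.isNilpotent_iff_basicOpen_eq_bot _).2 h1
  have hflat' : φ.Flat := by
    have h : Flat q.left := hflat
    exact (HasRingHomProperty.iff_of_isAffine (P := @Flat)).1 h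
  have hε : ∀ c, (η[H]).left.appTop.hom (φ c) = εC c := fun c => by
    have h := congrArg (fun f => f.left.appTop.hom c) (IsMonHom.one_hom (f := q))
    rw [Over.comp_left, Scheme.Hom.comp_appTop] at h
    exact h
  have hkey : ∀ c : C, εC c = 0 → φ c = 0 := by
    intro c hc
    rcases CharP.exists k with ⟨p, hp⟩
    rcases Nat.eq_zero_or_pos p with rfl | hpos
    · haveI := CharP.charP_to_charZero k
      haveI : GrpObj (Over.mk Q.hom) := hQ
      haveI : Smooth Q.hom := Cartier.smooth_of_charZero Q.hom
      haveI : IsReduced Q.left := SmoothRed.isReduced_of_smooth_scheme Q.hom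
      rw [(hnil c hc).eq_zero, map_zero]
    · haveI : Fact p.Prime := ⟨(CharP.char_is_prime_or_zero k p).resolve_right hpos.ne'⟩
      haveI : IsNoetherianRing A := by
        haveI : IsLocallyNoetherian H.left := LocallyOfFiniteType.isLocallyNoetherian H.hom
        exact IsLocallyNoetherian.component_noetherian ⟨⊤, isAffineOpen_top H.left⟩
      have hd : φ c ∈ ⨅ n : ℕ, augI H ^ n • (⊤ : Submodule A A) := by
        rw [Submodule.mem_iInf]
        intro n
        obtain ⟨I, hI, i, hi, him, hif, hle⟩ := exists_frobKer p H n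
        haveI := hi; haveI := him; haveI := hif
        haveI : IsCommMonObj I := isCommMonObj_iff_isMulCommutative _ |>.2 fun T => ⟨⟨fun a b => by
          rw [← cancel_mono i, MonObj.mul_comp, MonObj.mul_comp, mul_comm]⟩⟩
        obtain ⟨f, -, hf⟩ := hsurj I i
        have h0 : i ≫ q = 1 := by rw [← hf, Category.assoc, hψq, MonObj.comp_one]
        have h1 : φ c ∈ RingHom.ker i.left.appTop.hom := by
          have h2 := congrArg (fun g => g.left.appTop.hom c) h0
          rw [one_appTop, Over.comp_left, Scheme.Hom.comp_appTop] at h2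
          rw [RingHom.mem_ker]
          refine h2.trans ?_
          rw [show (η[Q]).left.appTop.hom c = 0 from hc, map_zero]
        rw [Ideal.smul_eq_mul, Ideal.mul_top]
        exact Ideal.pow_le_pow_right (Nat.lt_pow_self (Fact.out : p.Prime).one_lt).le (hle h1)
      obtain ⟨⟨r, hr⟩, hrd⟩ := (Ideal.mem_iInf_smul_pow_eq_bot_iff (augI H) (φ c)).1 hd
      by_contra hne
      have hrel : (1 - r) * φ c = 0 := by
        rw [sub_mul, _root_.one_mul, sub_eq_zero]
        exact hrd.symm
      letI := φ.toAlgebra
      haveI : Module.Flat C A := hflat'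
      obtain ⟨l, a, y, hy, hca⟩ := Module.Flat.isTrivialRelation_of_sum_smul_eq_zero (R := C) (M := A)
        (f := fun _ : Fin 1 => c) (x := fun _ => 1 - r)
        (by rw [Fin.sum_univ_one, Algebra.smul_def, mul_comm]; exact hrel)
      have ha : ∀ j, εC (a 0 j) = 0 := by
        intro j
        have h1 : c * a 0 j = 0 := by simpa using hca j
        by_contra hu
        have hcne : c ≠ 0 := fun h => hne (by rw [h, map_zero])
        let c' : C := a 0 j - Q.hom.appTop.hom (εC (a 0 j))
        have hnilc' : IsNilpotent c' := hnil c' (by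
          rw [map_sub]
          exact sub_eq_zero.2 (etaHom Q _).symm)
        have hunit : IsUnit (Q.hom.appTop.hom (εC (a 0 j))) := by
          refine RingHom.isUnit_map _ ?_
          obtain ⟨e⟩ : Nonempty (Γ(Spec (CommRingCat.of k), ⊤) ≃+* k) :=
            ⟨(Scheme.ΓSpecIso (CommRingCat.of k)).commRingCatIsoToRingEquiv⟩
          exact (isUnit_map_iff e _).1 (Ne.isUnit (by rwa [Ne, map_eq_zero_iff _ e.injective]))
        have h4 : IsUnit (a 0 j) := by
          have := IsNilpotent.isUnit_add_left_of_commute hnilc' hunit (Commute.all _ _)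
          rwa [show Q.hom.appTop.hom (εC (a 0 j)) + c' = a 0 j from add_sub_cancel _ _] at this
        exact hcne ((IsUnit.mul_left_eq_zero h4).1 h1)
      have h5 : (η[H]).left.appTop.hom (1 - r) = 0 := by
        rw [show (1 - r : A) = ∑ j, a 0 j • y j from hy 0, map_sum]
        refine Finset.sum_eq_zero fun j _ => ?_
        rw [Algebra.smul_def, map_mul]
        rw [show (algebraMap C A) (a 0 j) = φ (a 0 j) from rfl, hε, ha j, zero_mul]
      rw [map_sub, map_one, show (η[H]).left.appTop.hom r = 0 from hr, sub_zero] at h5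
      exact one_ne_zero (α := Γ(Spec (CommRingCat.of k), ⊤)) h5
  ext1
  apply ext_of_isAffine
  refine CommRingCat.hom_ext (RingHom.ext fun c => ?_)
  rw [one_appTop]
  show φ c = H.hom.appTop.hom (εC c)
  have h0 := hkey (c - Q.hom.appTop.hom (εC c)) (by
    rw [map_sub]
    exact sub_eq_zero.2 (etaHom Q _).symm)
  rw [map_sub, sub_eq_zero] at h0
  rw [h0]
  have h3 := congrArg (fun f => f.appTop.hom (εC c)) (Over.w q)
  rw [Scheme.Hom.comp_appTop] at h3
  exact h3

end Groth.Agent.FinSubDet
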